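/-
The character on antisymmetric functions (namespace `Cfsg.Agent.PrimeDegreeTwoP`).

Main results: `antiChar`, `isCharacter_antiChar`, `classInner_antiChar_one_ne_zero`,
`classInner_antiChar_one_eq_zero`.
-/
import Cfsg.Agent.Lib.Char.Perm
import Cfsg.Agent.Lib.Char.Inner

set_option autoImplicit false
set_option linter.unusedSectionVars false

open scoped ComplexConjugate

namespace Cfsg.Agent.PrimeDegreeTwoP

open Cfsg Module

variable {G : Type*} [Group G] {Y : Type*} [MulAction G Y] [Finite Y] (σ : Y → Y)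

/-- The character on the functions changing sign under `σ`. -/
noncomputable def antiChar (g : G) : ℂ :=
  ((Nat.card {y : Y // g • y = y} : ℂ) - (Nat.card {y : Y // g • y = σ y} : ℂ)) / 2

/-- The projection on the antisymmetric functions. -/
noncomputable def antiProj : (Y → ℂ) →ₗ[ℂ] (Y → ℂ) :=
  (2 : ℂ)⁻¹ • (LinearMap.id - LinearMap.funLeft ℂ ℂ σ)

theorem antiProj_apply (f : Y → ℂ) (y : Y) : antiProj σ f y = (2 : ℂ)⁻¹ * (f y - f (σ y)) := rfl

variable (hσ : ∀ y, σ (σ y) = y) (heq : ∀ (g : G) y, g • σ y = σ (g • y))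
include hσ heq

theorem antiProj_idem (f : Y → ℂ) : antiProj σ (antiProj σ f) = antiProj σ f := by
  funext y
  rw [antiProj_apply, antiProj_apply, antiProj_apply, hσ]
  ring

theorem antiProj_comm (g : G) (f : Y → ℂ) :
    antiProj σ (Char.permRep G Y g f) = Char.permRep G Y g (antiProj σ f) := by
  funext y
  show (2 : ℂ)⁻¹ * (f (g⁻¹ • y) - f (g⁻¹ • σ y)) = (2 : ℂ)⁻¹ * (f (g⁻¹ • y) - f (σ (g⁻¹ • y)))
  rw [heq]

/-- The representation on the antisymmetric functions. -/
noncomputable def antiRep : Representation ℂ G (LinearMap.range (antiProj σ)) where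
  toFun g := LinearMap.restrict (Char.permRep G Y g) (p := LinearMap.range (antiProj σ))
    (q := LinearMap.range (antiProj σ)) (by
      rintro v ⟨f, rfl⟩
      exact ⟨_, antiProj_comm σ hσ heq g f⟩)
  map_one' := by
    refine LinearMap.ext fun v => Subtype.ext ?_
    show Char.permRep G Y 1 v.1 = v.1
    rw [map_one]
    rfl
  map_mul' g h := by
    refine LinearMap.ext fun v => Subtype.ext ?_
    show Char.permRep G Y (g * h) v.1 = Char.permRep G Y g (Char.permRep G Y h v.1)
    rw [map_mul]
    rfl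

theorem antiRep_character (g : G) : (antiRep σ hσ heq).character g = antiChar σ g := by
  classical
  have := Fintype.ofFinite Y
  set P := antiProj σ
  let π : (Y → ℂ) →ₗ[ℂ] LinearMap.range P := P.rangeRestrict
  have hr : antiRep σ hσ heq g = π ∘ₗ ((Char.permRep G Y g) ∘ₗ (LinearMap.range P).subtype) := by
    refine LinearMap.ext fun v => Subtype.ext ?_
    obtain ⟨v, f, rfl⟩ := v
    show Char.permRep G Y g (P f) = P (Char.permRep G Y g (P f))
    rw [antiProj_comm σ hσ heq, antiProj_idem σ hσ heq]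
  rw [Representation.character, hr, LinearMap.trace_comp_comm']
  have hc : ((Char.permRep G Y g) ∘ₗ (LinearMap.range P).subtype) ∘ₗ π = (Char.permRep G Y g) ∘ₗ P := rfl
  rw [hc, LinearMap.trace_eq_matrix_trace ℂ (Pi.basisFun ℂ Y), Matrix.trace, antiChar]
  simp only [Matrix.diag, LinearMap.toMatrix_apply, Pi.basisFun_repr, Pi.basisFun_apply, LinearMap.comp_apply]
  rw [Finset.sum_congr rfl (g := fun y => ((if g • y = y then (1 : ℂ) else 0) - if g • y = σ y then 1 else 0) / 2)
    fun y _ => ?_]
  · rw [← Finset.sum_div, Finset.sum_sub_distrib, Finset.sum_boole, Finset.sum_boole, Nat.card_eq_fintype_card,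
      Nat.card_eq_fintype_card, Fintype.card_subtype, Fintype.card_subtype]
  · show (2 : ℂ)⁻¹ * ((Pi.single y 1 : Y → ℂ) (g⁻¹ • y) - (Pi.single y 1 : Y → ℂ) (σ (g⁻¹ • y))) = _
    rw [Pi.single_apply, Pi.single_apply, inv_mul_eq_div]
    refine congrArg (· / 2) (congrArg₂ (· - ·) (if_congr ?_ rfl rfl) (if_congr ?_ rfl rfl))
    · rw [inv_smul_eq_iff, eq_comm]
    · rw [← heq, inv_smul_eq_iff, eq_comm]

theorem isCharacter_antiChar : IsCharacter G (antiChar (G := G) σ) := by
  rw [show antiChar (G := G) σ = (antiRep σ hσ heq).character from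
    (funext (antiRep_character σ hσ heq)).symm]
  exact Char.isCharacter_character _

variable [Fintype G]

theorem classInner_antiChar_one : classInner (antiChar (G := G) σ) (1 : G → ℂ) =
    (finrank ℂ (antiRep σ hσ heq).invariants : ℂ) := by
  have : Invertible (Nat.card G : ℂ) := invertibleOfNonzero (Nat.cast_ne_zero.mpr Nat.card_pos.ne')
  have : Invertible (Fintype.card G : ℂ) := by rwa [Fintype.card_eq_nat_card]
  have := Fintype.ofFinite Y
  have : FiniteDimensional ℂ (LinearMap.range (antiProj (Y := Y) σ)) := inferInstance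
  have hF : Module.Free ℂ (antiRep σ hσ heq).invariants :=
    Module.Free.of_divisionRing ℂ (antiRep σ hσ heq).invariants
  have hK : Module.Free ℂ (LinearMap.ker (antiRep σ hσ heq).averageMap) :=
    Module.Free.of_divisionRing ℂ (LinearMap.ker (antiRep σ hσ heq).averageMap)
  rw [← (Representation.isProj_averageMap (antiRep σ hσ heq)).trace, classInner]
  simp only [Pi.one_apply, map_one, mul_one, ← antiRep_character σ hσ heq]
  simp [Representation.character, Representation.averageMap, GroupAlgebra.average, map_sum]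

theorem classInner_antiChar_one_ne_zero (f : Y → ℂ) (hf : ∀ y, f (σ y) = -f y)
    (hinv : ∀ (g : G) y, f (g • y) = f y) (hne : f ≠ 0) :
    classInner (antiChar (G := G) σ) (1 : G → ℂ) ≠ 0 := by
  rw [classInner_antiChar_one σ hσ heq]
  refine Nat.cast_ne_zero.mpr fun h => hne ?_
  have hmem : f ∈ LinearMap.range (antiProj σ) := ⟨f, funext fun y => by rw [antiProj_apply, hf]; ring⟩
  have h1 : (⟨f, hmem⟩ : LinearMap.range (antiProj σ)) ∈ (antiRep σ hσ heq).invariants := fun g =>
    Subtype.ext (funext fun y => hinv g⁻¹ y)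
  rw [Submodule.finrank_eq_zero] at h
  rw [h, Submodule.mem_bot] at h1
  exact congrArg Subtype.val h1

theorem classInner_antiChar_one_eq_zero
    (h : ∀ f : Y → ℂ, (∀ y, f (σ y) = -f y) → (∀ (g : G) y, f (g • y) = f y) → f = 0) :
    classInner (antiChar (G := G) σ) (1 : G → ℂ) = 0 := by
  rw [classInner_antiChar_one σ hσ heq, Nat.cast_eq_zero, Submodule.finrank_eq_zero, eq_bot_iff]
  rintro ⟨v, f, hf⟩ hv
  rw [Submodule.mem_bot]
  refine Subtype.ext (h v (fun y => ?_) fun g y => ?_)
  · rw [← hf, antiProj_apply, antiProj_apply, hσ]; ring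
  · have h1 := congrFun (congrArg Subtype.val (hv g⁻¹)) y
    rw [show (antiRep σ hσ heq g⁻¹ ⟨v, f, hf⟩ : LinearMap.range (antiProj σ)).1 y = v (g⁻¹⁻¹ • y) from rfl,
      inv_inv] at h1
    exact h1

end Cfsg.Agent.PrimeDegreeTwoP
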