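/-
Transitive groups of prime degree with a Sylow normalizer of order `2p`: local data
(namespace `Cfsg.Agent.PrimeDegreeTwoP`).

Main results: `exists_smul_zpowers`, `Data`, `Data.card_K`, `Data.index_K`, `Data.fix_pw`.
-/
import Cfsg.Agent.Lib.CyclicDefect.Mult
import Cfsg.Agent.Lib.PrimeDegreeTwoP.Antisym
import Cfsg.Agent.Lib.CentralChar.Fixed
import Cfsg.Agent.Lib.Codegree.Basic
import Mathlib.GroupTheory.Perm.Cycle.Type

set_option autoImplicit false
set_option linter.unusedSectionVars false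
set_option linter.style.haveILetI false

open scoped ComplexConjugate

namespace Cfsg.Agent.PrimeDegreeTwoP

open Cfsg Cfsg.Agent.Blocks Cfsg.Agent.CyclicDefect

variable {α : Type*} [Fintype α] [DecidableEq α] {p : ℕ} {G : Subgroup (Equiv.Perm α)}

/-- A transitive cyclic subgroup of prime order. -/
theorem exists_pow_smul (hp : p.Prime) (hα : Fintype.card α = p) {x : G} (hx : orderOf x = p) (a b : α) :
    ∃ n : ℕ, (x ^ n) • a = b := by
  have hx' : orderOf (x : Equiv.Perm α) = p := by rw [Subgroup.orderOf_coe, hx]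
  have hc : (x : Equiv.Perm α).IsCycle := Equiv.Perm.isCycle_of_prime_order'' (hα ▸ hp) (hx'.trans hα.symm)
  have hs : (x : Equiv.Perm α).support = Finset.univ :=
    Finset.eq_univ_of_card _ (hc.orderOf.symm.trans (hx'.trans hα.symm))
  obtain ⟨n, hn⟩ := hc.exists_pow_eq (Equiv.Perm.mem_support.mp (hs ▸ Finset.mem_univ a))
    (Equiv.Perm.mem_support.mp (hs ▸ Finset.mem_univ b))
  exact ⟨n, hn⟩

variable [Fact p.Prime] {x : G} {L : Subgroup G} (hS : Setting p x L) (hα : Fintype.card α = p)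
include hS hα

theorem eq_one_of_fix_of_commute {g : G} (hg : Commute x g) {a : α} (ha : g • a = a) : g = 1 := by
  refine eq_of_smul_eq_smul (α := α) fun b => ?_
  obtain ⟨n, rfl⟩ := exists_pow_smul hS.hp hα hS.hx a b
  rw [← mul_smul, ← (hg.pow_left n).eq, mul_smul, ha, one_smul]

theorem fix_pw {i : ZMod p} (hi : i ≠ 0) : Nat.card (MulAction.fixedBy α (pw x i : G)) = 0 := by
  rw [Nat.card_eq_zero]
  refine Or.inl ⟨fun a => ?_⟩
  have h := eq_one_of_fix_of_commute hS hα (g := pw x i) ((Commute.refl x).pow_right _) a.2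
  exact hi (hS.pw_inj (h.trans hS.pw_zero.symm))

theorem card_K (hp2 : 2 < p) (hL : Nat.card L = 2) : Nat.card (K x L) = 1 := by
  rw [Subgroup.card_eq_one, eq_bot_iff]
  intro k hk
  rw [Subgroup.mem_bot]
  by_contra hne
  have hk2 : (k : G) ^ 2 = 1 := by
    rw [← Subgroup.coe_pow, ← hL, pow_card_eq_one', Subgroup.coe_one]
  have hcomm : Commute x (k : G) := mem_K.mp hk
  haveI : Fact (Nat.Prime 2) := ⟨Nat.prime_two⟩
  have hpg : IsPGroup 2 (Subgroup.zpowers (k : G)) := by
    refine IsPGroup.of_card (n := 1) ?_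
    rw [Nat.card_zpowers, pow_one]
    exact orderOf_eq_prime hk2 fun h => hne (Subtype.ext h)
  have h := hpg.card_modEq_card_fixedPoints α
  have h0 : Nat.card (MulAction.fixedPoints (Subgroup.zpowers (k : G)) α) = 0 := by
    rw [Nat.card_eq_zero]
    refine Or.inl ⟨fun a => hne (Subtype.ext ?_)⟩
    exact eq_one_of_fix_of_commute hS hα hcomm (a.2 ⟨(k : G), Subgroup.mem_zpowers _⟩)
  rw [h0, Nat.card_eq_fintype_card, hα, Nat.modEq_zero_iff_dvd] at h
  have := (Nat.prime_dvd_prime_iff_eq Nat.prime_two hS.hp).mp h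
  omega

theorem index_K (hp2 : 2 < p) (hL : Nat.card L = 2) : (K x L).index = 2 := by
  have h := (K x L).card_mul_index
  rwa [card_K hS hα hp2 hL, one_mul, hL] at h

end Cfsg.Agent.PrimeDegreeTwoP
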