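/-
Transitive groups of prime degree with a Sylow normalizer of order `2p` (namespace `Cfsg.Agent.PrimeDegreeTwoP`).

Main results: `perm_character` (the permutation character is `1 + ψ`, or `x` generates a normal subgroup),
`fixed_points` (a regular element fixes one or two points), `card_eq`.
-/
import Cfsg.Agent.Lib.PrimeDegreeTwoP.Basic
import Mathlib.GroupTheory.Transfer

set_option autoImplicit false
set_option linter.unusedSectionVars false
set_option linter.style.haveILetI false

open scoped ComplexConjugate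

namespace Cfsg.Agent.PrimeDegreeTwoP

open Cfsg Cfsg.Agent.Blocks Cfsg.Agent.CyclicDefect

/-- A normal `p`-complement from a self normalized `P` of order `p`. -/
theorem exists_normal_complement {H : Type*} [Group H] [Finite H] {p : ℕ} [Fact p.Prime] (P : Sylow p H)
    (hP : IsMulCommutative (P : Subgroup H)) (hN : Subgroup.normalizer ((P : Subgroup H) : Set H) ≤ (P : Subgroup H)) :
    ∃ Q : Subgroup H, Q.Normal ∧ Subgroup.IsComplement' Q (P : Subgroup H) := by
  have hc : Subgroup.normalizer ((P : Subgroup H) : Set H) ≤ Subgroup.centralizer ((P : Subgroup H) : Set H) :=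
    hN.trans (fun y hy => Subgroup.mem_centralizer_iff.mpr fun z hz =>
      congrArg Subtype.val (hP.is_comm.comm ⟨z, hz⟩ ⟨y, hy⟩))
  exact ⟨_, inferInstance, MonoidHom.ker_transferSylow_isComplement' P hc⟩

open scoped Classical in
/-- The characters of a block outside the exceptional family. -/
theorem card_rest {H T : Type*} [Group H] [Fintype T] [Fintype (IrrCharacter H)] {B : Set (IrrCharacter H)}
    {exc : T → IrrCharacter H} (hinj : Function.Injective exc) (hexc : ∀ c, exc c ∈ B)
    (hk : Nat.card B = 2 + Nat.card T) :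
    (Finset.univ.filter (fun χ => χ ∈ B ∧ χ ∉ Set.range exc)).card = 2 := by
  set F := Finset.univ.filter (fun χ => χ ∈ B ∧ χ ∉ Set.range exc) with hF
  have h1 : (Finset.univ.filter (fun χ => χ ∈ B)).card = F.card + (Finset.univ.image exc).card := by
    rw [← Finset.card_union_of_disjoint (Finset.disjoint_left.mpr fun a ha hb => by
      obtain ⟨c', -, rfl⟩ := Finset.mem_image.mp hb
      exact (Finset.mem_filter.mp ha).2.2 (Set.mem_range_self c'))]
    congr 1
    ext a
    simp only [hF, Finset.mem_filter, Finset.mem_univ, true_and, Finset.mem_union, Finset.mem_image, Set.mem_range]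
    constructor
    · intro h
      by_cases h' : ∃ y, exc y = a
      · exact Or.inr h'
      · exact Or.inl ⟨h, h'⟩
    · rintro (h | ⟨y, rfl⟩)
      · exact h.1
      · exact hexc y
  rw [Finset.card_image_of_injective _ hinj, Finset.card_univ, ← Nat.card_eq_fintype_card] at h1
  rw [Nat.card_eq_fintype_card, Fintype.card_subtype, h1] at hk
  omega

variable {α : Type*} [Fintype α] [DecidableEq α] {p : ℕ} [Fact p.Prime] {G : Subgroup (Equiv.Perm α)}
  {x : G} {L : Subgroup G} (hS : Setting p x L) (hα : Fintype.card α = p)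
include hS hα

/-- A normal subgroup of a transitive group of prime degree is trivial or contains the Sylow subgroup. -/
theorem mem_of_normal {N : Subgroup G} (hN : N.Normal) (hne : N ≠ ⊥) : x ∈ N := by
  classical
  haveI := Fintype.ofFinite N
  obtain ⟨g, hg, hg1⟩ : ∃ g ∈ N, g ≠ 1 := (Subgroup.ne_bot_iff_exists_ne_one.mp hne).elim fun g hg =>
    ⟨g, g.2, fun h => hg (Subtype.ext h)⟩
  obtain ⟨a, ha⟩ : ∃ a, g • a ≠ a := by
    by_contra h
    push Not at h
    exact hg1 (eq_of_smul_eq_smul (α := α) fun b => by rw [h, one_smul])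
  haveI : Fintype (MulAction.orbitRel.Quotient N α) := Fintype.ofFinite _
  -- all orbits have the same size
  have hsize : ∀ b : α, Nat.card (MulAction.orbit N b) = Nat.card (MulAction.orbit N a) := by
    intro b
    obtain ⟨n, hn⟩ := exists_pow_smul hS.hp hα hS.hx a b
    subst hn
    refine (Nat.card_eq_of_bijective (fun c : MulAction.orbit N a => (⟨(x ^ n) • c.1, ?_⟩ : MulAction.orbit N ((x ^ n) • a))) ⟨?_, ?_⟩).symm
    · obtain ⟨m, hm⟩ := c.2
      refine ⟨⟨x ^ n * m * (x ^ n)⁻¹, hN.conj_mem _ m.2 _⟩, ?_⟩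
      show (x ^ n * (m : G) * (x ^ n)⁻¹) • (x ^ n) • a = (x ^ n) • c.1
      rw [← hm, mul_smul, mul_smul, inv_smul_smul]
      rfl
    · exact fun c d h => Subtype.ext (smul_left_cancel _ (congrArg Subtype.val h :))
    · rintro ⟨d, m, hm⟩
      refine ⟨⟨(x ^ n)⁻¹ • d, ⟨⟨(x ^ n)⁻¹ * m * (x ^ n), hN.conj_mem' _ m.2 _⟩, ?_⟩⟩, Subtype.ext (smul_inv_smul _ _)⟩
      show ((x ^ n)⁻¹ * (m : G) * x ^ n) • a = (x ^ n)⁻¹ • d
      rw [← hm, mul_smul, mul_smul]
      rfl
  have hsum : Fintype.card α = Fintype.card (MulAction.orbitRel.Quotient N α) * Nat.card (MulAction.orbit N a) := by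
    rw [Fintype.card_congr (MulAction.selfEquivSigmaOrbits N α), Fintype.card_sigma,
      Finset.sum_congr rfl (fun q _ => (Nat.card_eq_fintype_card.symm.trans (hsize q.out) : Fintype.card _ = _)),
      Finset.sum_const, Finset.card_univ, smul_eq_mul]
  have hdvd : Nat.card (MulAction.orbit N a) ∣ p := Dvd.intro_left _ (hsum.symm.trans hα)
  have hp' : Nat.card (MulAction.orbit N a) = p := by
    refine ((Nat.dvd_prime hS.hp).mp hdvd).resolve_left fun h1 => ha ?_
    rw [Nat.card_eq_one_iff_unique] at h1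
    haveI := h1.1
    exact congrArg Subtype.val (Subsingleton.elim (⟨g • a, ⟨⟨g, hg⟩, rfl⟩⟩ : MulAction.orbit N a)
      ⟨a, MulAction.mem_orbit_self a⟩)
  have hpN : p ∣ Nat.card N := by
    rw [← hp', Nat.card_congr (MulAction.orbitEquivQuotientStabilizer N a)]
    exact Subgroup.index_dvd_card _
  obtain ⟨y, hy⟩ := exists_prime_orderOf_dvd_card' (G := N) p hpN
  let P : Sylow p G := Sylow.ofCard (Subgroup.zpowers x) (by rw [hS.card_zpowers_eq, hS.factorization_card, pow_one])
  obtain ⟨Q, hQ⟩ := (IsPGroup.of_card (n := 1) (show Nat.card (Subgroup.zpowers (y : G)) = p ^ 1 by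
    rw [Nat.card_zpowers, pow_one, Subgroup.orderOf_coe]; exact hy)).exists_le_sylow
  obtain ⟨c, hc⟩ := MulAction.exists_smul_eq G P Q
  have hyQ : (y : G) ∈ (Q : Subgroup G) := hQ (Subgroup.mem_zpowers _)
  rw [← hc, Sylow.coe_subgroup_smul] at hyQ
  obtain ⟨z, hz, hzy⟩ := hyQ
  obtain ⟨i, rfl⟩ := hS.exists_pw hz
  have hi : i ≠ 0 := by
    rintro rfl
    have h1 : (y : G) = 1 := by rw [← hzy, hS.pw_zero]; exact map_one _
    rw [← Subgroup.orderOf_coe, h1, orderOf_one] at hy
    exact hS.hp.ne_one hy.symm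
  have hmem : pw x i ∈ N := by
    have h2 := hN.conj_mem' _ y.2 c
    have h3 : (y : G) = c * pw x i * c⁻¹ := hzy.symm
    rwa [h3, show c⁻¹ * (c * pw x i * c⁻¹) * c = pw x i by group] at h2
  have := N.pow_mem hmem (i⁻¹).val
  rwa [hS.pw_pow, ZMod.natCast_rightInverse, inv_mul_cancel₀ hi, hS.pw_one] at this

variable (hp2 : 2 < p) (hL : Nat.card L = 2)
include hp2 hL

omit [Fact p.Prime] in
/-- Only the principal character of `K`. -/
theorem irr_K_eq (φ : IrrCharacter (K x L)) : φ = oneK x L := by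
  haveI : Fact p.Prime := hS.fact
  have := Fintype.ofFinite (K x L)
  haveI : Subsingleton (K x L) := (Nat.card_eq_one_iff_unique.mp (card_K hS hα hp2 hL)).1
  refine Subtype.ext (funext fun k => ?_)
  rw [Subsingleton.elim k 1]
  have h := Nat.le_of_dvd Nat.card_pos (charDegree_dvd_card φ)
  rw [card_K hS hα hp2 hL] at h
  have h0 : charDegree (φ : K x L → ℂ) ≠ 0 := fun h => irr_one_ne_zero φ (by rw [← charDegree_cast, h, Nat.cast_zero])
  rw [← charDegree_cast, show charDegree (φ : K x L → ℂ) = 1 by omega, Nat.cast_one]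
  rfl

theorem charDegree_eq_sum_one (χ : IrrCharacter G) :
    charDegree (χ : G → ℂ) = ∑ j : ZMod p, multN hS χ (oneK x L) j := by
  have := Fintype.ofFinite (IrrCharacter (K x L))
  rw [charDegree_eq_sum hS χ, Finset.sum_eq_single (oneK x L) (fun φ _ h => absurd (irr_K_eq hS hα hp2 hL φ) h)
    (fun h => absurd (Finset.mem_univ _) h),
    show charDegree ((oneK x L : IrrCharacter (K x L)) : K x L → ℂ) = 1 from
      Nat.cast_injective (R := ℂ) (by rw [charDegree_cast, Nat.cast_one]; rfl), one_mul]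

theorem dec_one_eq {f : G → ℂ} (i : ZMod p) :
    dec f (oneK x L : K x L → ℂ) i = f (pw x i) := by
  have := Fintype.ofFinite (K x L)
  haveI : Subsingleton (K x L) := (Nat.card_eq_one_iff_unique.mp (card_K hS hα hp2 hL)).1
  rw [dec_eq, classInner, card_K hS hα hp2 hL, Nat.cast_one, inv_one, one_mul, Fintype.sum_subsingleton _ 1]
  show f (pw x i * _) * conj (1 : ℂ) = _
  rw [map_one, mul_one, OneMemClass.coe_one, OneMemClass.coe_one, mul_one]

theorem apply_pw_eq (χ : IrrCharacter G) (i : ZMod p) :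
    (χ : G → ℂ) (pw x i) = ∑ j : ZMod p, (multN hS χ (oneK x L) j : ℂ) * ζ (i * j) := by
  rw [← dec_one_eq hS hα hp2 hL (f := (χ : G → ℂ)), dec_eq_sum_mult]
  exact Finset.sum_congr rfl fun j _ => by rw [multN_spec hS]

theorem card_U_two : Nat.card (U hS (oneK x L : K x L → ℂ)) = 2 := by
  rw [card_U_one hS, index_K hS hα hp2 hL]

theorem multN_one (j : ZMod p) :
    multN hS ⟨1, Char.isIrrCharacter_one⟩ (oneK x L) j = if j = 0 then 1 else 0 := by
  apply Nat.cast_injective (R := ℂ)
  rw [← multN_spec hS, mult]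
  have hd : ∀ i : ZMod p, dec (x := x) ((⟨1, Char.isIrrCharacter_one⟩ : IrrCharacter G) : G → ℂ)
      (oneK x L : K x L → ℂ) i = 1 := fun i => by
    rw [dec_one_eq hS hα hp2 hL]; rfl
  simp only [hd, mul_one]
  rw [Finset.sum_congr rfl (g := fun i => ζ (i * -j)) fun i _ => by rw [mul_neg], sum_ζ_mul]
  simp only [neg_eq_zero]
  split_ifs <;> simp [hS.hp.ne_zero]

omit [DecidableEq α] hS hp2 hL in
theorem perm_apply_one : Nat.card (MulAction.fixedBy α (1 : G)) = p := by
  rw [show MulAction.fixedBy α (1 : G) = Set.univ from Set.eq_univ_of_forall fun a => one_smul _ a,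
    Nat.card_univ, Nat.card_eq_fintype_card, hα]

theorem mult_perm (j : ZMod p) :
    mult (fun g : G => (Nat.card (MulAction.fixedBy α g) : ℂ)) (oneK x L : K x L → ℂ) j = 1 := by
  rw [mult, Finset.sum_eq_single 0 (fun i _ hi => ?_) (fun h => absurd (Finset.mem_univ _) h)]
  · rw [zero_mul, neg_zero, ζ_zero, one_mul, dec_one_eq hS hα hp2 hL, hS.pw_zero, perm_apply_one hα,
      inv_mul_cancel₀ (Nat.cast_ne_zero.mpr hS.hp.ne_zero)]
  · rw [dec_one_eq hS hα hp2 hL, fix_pw hS hα hi, Nat.cast_zero, mul_zero]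

variable {M : Ideal AlgInt} (hM : IsPModular p M)
include hM

set_option maxHeartbeats 800000 in
open scoped Classical in
/-- The permutation character is `1 + ψ`, unless `x` generates a normal subgroup. -/
theorem perm_character (hnn : ¬ (Subgroup.zpowers x).Normal) :
    ∃ ψ : IrrCharacter G, ψ ≠ ⟨1, Char.isIrrCharacter_one⟩ ∧
      (∀ g : G, (Nat.card (MulAction.fixedBy α g) : ℂ) = 1 + (ψ : G → ℂ) g) ∧
      ψ ∈ principalBlock M G ∧ multN hS ψ (oneK x L) 0 = 0 ∧
      ∀ u : (ZMod p)ˣ, bInt hS ψ (oneK x L) (u : ZMod p) = 1 := by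
  have hp := hS.hp
  have := Fintype.ofFinite G
  have := Fintype.ofFinite (IrrCharacter G)
  set π : G → ℂ := fun g => (Nat.card (MulAction.fixedBy α g) : ℂ)
  obtain ⟨m, hm, hmi⟩ := Char.IsCharacter.decompose (G := G) (χ := π) (Char.isCharacter_fixedPoints α)
  set one : IrrCharacter G := ⟨1, Char.isIrrCharacter_one⟩
  have hN1 : ∀ j, multN hS one (oneK x L) j = if j = 0 then 1 else 0 := multN_one hS hα hp2 hL
  have hm1 : m one = 1 := by
    apply Nat.cast_injective (R := ℂ)
    rw [← hmi, show (one : G → ℂ) = 1 from rfl, Char.classInner_fixedPoints_one, Nat.cast_inj]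
    rw [Nat.card_eq_one_iff_unique]
    obtain ⟨a⟩ : Nonempty α := Fintype.card_pos_iff.mp (by omega)
    haveI : MulAction.IsPretransitive G α := ⟨fun b c => by
      obtain ⟨n, hn⟩ := exists_pow_smul hp hα hS.hx b c
      exact ⟨x ^ n, hn⟩⟩
    exact ⟨MulAction.pretransitive_iff_subsingleton_quotient G α |>.mp inferInstance, ⟨Quotient.mk'' a⟩⟩
  have hmult : ∀ j : ZMod p, ∑ φ : IrrCharacter G, m φ * multN hS φ (oneK x L) j = 1 := by
    intro j
    apply Nat.cast_injective (R := ℂ)
    rw [Nat.cast_one, ← mult_perm hS hα hp2 hL j, show (fun g : G => (Nat.card (MulAction.fixedBy α g) : ℂ)) = π from rfl,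
      hm, mult_sum hS, Nat.cast_sum]
    exact Finset.sum_congr rfl fun φ _ => by rw [multN_spec hS, Nat.cast_mul]
  have hrest : ∀ φ, φ ≠ one → m φ ≠ 0 → multN hS φ (oneK x L) 0 = 0 := by
    intro φ hne hmφ
    have h := hmult 0
    rw [← Finset.add_sum_erase _ _ (Finset.mem_univ one), hm1, hN1, if_pos rfl] at h
    have h2 := Finset.sum_eq_zero_iff.mp (by omega : ∑ φ ∈ Finset.univ.erase one, m φ * multN hS φ (oneK x L) 0 = 0)
      φ (Finset.mem_erase.mpr ⟨hne, Finset.mem_univ _⟩)
    exact (Nat.mul_eq_zero.mp h2).resolve_left hmφ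
  obtain ⟨hP, h1P⟩ := principal_isPBlock (G := G) hM
  have hl := lies_principal hS hM
  obtain ⟨hk, exc, ε, δ, hinj, hexcB, hε, hexc, hcst, hrel⟩ := block_structure hS hM hP hl
  have htcard : Nat.card ((ZMod p)ˣ ⧸ U hS (oneK x L : K x L → ℂ)) * 2 = p - 1 := by
    rw [← card_units_eq hS (oneK x L : K x L → ℂ), card_U_two hS hα hp2 hL, mul_comm]
  -- the type of a constituent
  have htype : ∀ φ, φ ≠ one → m φ ≠ 0 → φ ∈ principalBlock M G ∧
      ((∀ u : (ZMod p)ˣ, bInt hS φ (oneK x L) (u : ZMod p) = 1) ∧ charDegree (φ : G → ℂ) = p - 1 ∨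
        (ε = 1 ∧ φ ∈ Set.range exc ∧ charDegree (φ : G → ℂ) = 2)) := by
    intro φ hne hmφ
    have h0 := hrest φ hne hmφ
    have hd := charDegree_eq_sum_one hS hα hp2 hL φ
    have hs := sum_bInt_eq hS φ (oneK x L)
    rw [h0, Nat.cast_zero, mul_zero, sub_zero, ← hd] at hs
    have hd0 : charDegree (φ : G → ℂ) ≠ 0 := fun h => irr_one_ne_zero φ (by rw [← charDegree_cast, h, Nat.cast_zero])
    obtain ⟨u, hu⟩ : ∃ u : (ZMod p)ˣ, bInt hS φ (oneK x L) (u : ZMod p) ≠ 0 := by
      by_contra h
      push Not at h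
      rw [Finset.sum_eq_zero fun u _ => h u] at hs
      omega
    have hB : φ ∈ principalBlock M G := mem_of_bInt_ne_zero hS hM hP hl hu
    refine ⟨hB, ?_⟩
    by_cases hr : φ ∈ Set.range exc
    · obtain ⟨c, rfl⟩ := hr
      rw [sum_bInt_exc hS (hexc c), card_U_two hS hα hp2 hL] at hs
      refine Or.inr ⟨?_, ⟨c, rfl⟩, ?_⟩ <;> rcases hε with h | h <;> omega
    · obtain ⟨hδ, hrow⟩ := hcst φ hB hr
      rw [sum_bInt_const hS hrow] at hs
      have hδ1 : δ φ = 1 := hδ.resolve_right fun h => by rw [h] at hs; omega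
      refine Or.inl ⟨fun v => (hrow v).trans hδ1, ?_⟩
      rw [hδ1] at hs
      omega
  have hdeg : p = ∑ φ : IrrCharacter G, m φ * charDegree (φ : G → ℂ) := by
    apply Nat.cast_injective (R := ℂ)
    have h := congrFun hm 1
    simp only [Finset.sum_apply, Pi.smul_apply, smul_eq_mul] at h
    rw [show π 1 = (p : ℂ) by show (Nat.card _ : ℂ) = _; rw [perm_apply_one hα]] at h
    rw [h, Nat.cast_sum]
    exact Finset.sum_congr rfl fun φ _ => by rw [Nat.cast_mul, charDegree_cast]
  rw [← Finset.add_sum_erase _ _ (Finset.mem_univ one), hm1,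
    show charDegree (one : G → ℂ) = 1 from Nat.cast_injective (R := ℂ) (by rw [charDegree_cast, Nat.cast_one]; rfl),
    one_mul] at hdeg
  by_cases hall : ∀ φ, φ ≠ one → m φ ≠ 0 → charDegree (φ : G → ℂ) = p - 1
  · -- exactly one constituent
    obtain ⟨ψ, hψ, hψm⟩ : ∃ ψ, ψ ≠ one ∧ m ψ ≠ 0 := by
      by_contra h
      push Not at h
      rw [Finset.sum_eq_zero fun φ hφ => by rw [h φ (Finset.ne_of_mem_erase hφ), zero_mul]] at hdeg
      omega
    rw [← Finset.add_sum_erase _ _ (Finset.mem_erase.mpr ⟨hψ, Finset.mem_univ ψ⟩), hall ψ hψ hψm] at hdeg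
    have hmψ : m ψ = 1 := by
      by_contra h
      have := Nat.mul_le_mul_right (p - 1) (show 2 ≤ m ψ by omega)
      omega
    rw [hmψ, one_mul] at hdeg
    have hothers : ∀ φ, φ ≠ one → φ ≠ ψ → m φ = 0 := by
      intro φ h1 h2
      have h3 := Finset.sum_eq_zero_iff.mp (by omega : ∑ φ ∈ (Finset.univ.erase one).erase ψ,
        m φ * charDegree ((φ : IrrCharacter G) : G → ℂ) = 0) φ
        (Finset.mem_erase.mpr ⟨h2, Finset.mem_erase.mpr ⟨h1, Finset.mem_univ _⟩⟩)
      exact (Nat.mul_eq_zero.mp h3).resolve_right fun h => irr_one_ne_zero φ (by rw [← charDegree_cast, h, Nat.cast_zero])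
    have hexp : ∀ g : G, π g = 1 + (ψ : G → ℂ) g := by
      intro g
      rw [hm, Finset.sum_apply, Finset.sum_eq_add one ψ hψ.symm (fun φ _ hφ => ?_)
        (fun h => absurd (Finset.mem_univ _) h) (fun h => absurd (Finset.mem_univ _) h)]
      · simp [hm1, hmψ, one]
      · simp [hothers φ hφ.1 hφ.2]
    obtain ⟨hB, ht⟩ := htype ψ hψ hψm
    refine ⟨ψ, hψ, hexp, hB, hrest ψ hψ hψm, ?_⟩
    rcases ht with ⟨hrow, -⟩ | ⟨-, ⟨c, hc⟩, hd2⟩
    · exact hrow
    · -- here `p = 3`
      rw [hall ψ hψ hψm] at hd2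
      have hp3 : p = 3 := by omega
      haveI : Subsingleton ((ZMod p)ˣ ⧸ U hS (oneK x L : K x L → ℂ)) :=
        (Nat.card_eq_one_iff_unique.mp (by omega)).1
      intro u
      have h := hexc c u
      rw [hc, if_pos (Subsingleton.elim _ _)] at h
      have hs := sum_bInt_eq hS ψ (oneK x L)
      rw [hrest ψ hψ hψm, Nat.cast_zero, mul_zero, sub_zero, ← charDegree_eq_sum_one hS hα hp2 hL, hall ψ hψ hψm,
        ← hc, sum_bInt_exc hS (hexc c), card_U_two hS hα hp2 hL] at hs
      rw [h]
      omega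
  · -- a constituent of degree two
    exfalso
    push Not at hall
    obtain ⟨θ, hθ1, hθm, hθd⟩ := hall
    obtain ⟨-, ht⟩ := htype θ hθ1 hθm
    obtain ⟨hε1, ⟨c, rfl⟩, hθ2⟩ := ht.resolve_left fun h => hθd h.2
    subst hε1
    have hone : one ∉ Set.range exc := by
      rintro ⟨c', hc'⟩
      have h := hexc c' c'.out
      rw [hc', bInt_eq_sub, hN1, hN1, if_neg (Units.ne_zero _), if_pos rfl, if_pos (Quotient.out_eq c')] at h
      omega
    have hone1 : δ one = -1 := by
      have h := (hcst one h1P hone).2 1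
      rw [bInt_eq_sub, hN1, hN1, if_neg (Units.ne_zero _), if_pos rfl] at h
      omega
    set F := Finset.univ.filter (fun χ => χ ∈ principalBlock M G ∧ χ ∉ Set.range exc) with hF
    have hFcard : F.card = 2 := by
      rw [card_U_two hS hα hp2 hL] at hk
      convert card_rest hinj hexcB hk
    have honeF : one ∈ F := Finset.mem_filter.mpr ⟨Finset.mem_univ _, h1P, hone⟩
    obtain ⟨lam, hlam, hlamne⟩ := Finset.exists_mem_ne (by omega : 1 < F.card) one
    have hFeq : F = {one, lam} := (Finset.eq_of_subset_of_card_le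
      (by intro a ha; rcases Finset.mem_insert.mp ha with rfl | ha
          · exact honeF
          · rw [Finset.mem_singleton.mp ha]; exact hlam)
      (by rw [hFcard, Finset.card_pair hlamne.symm])).symm
    have hrel' : ∀ g : G, ¬ p ∣ orderOf g →
        (exc c : G → ℂ) g = 1 - (δ lam : ℂ) * (lam : G → ℂ) g := by
      intro g hg
      have h := hrel g hg c
      rw [Finset.sum_congr (s₂ := F) (by ext; simp [hF]) fun _ _ => rfl, hFeq, Finset.sum_pair hlamne.symm, hone1, show (one : G → ℂ) g = 1 from rfl] at h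
      push_cast at h
      linear_combination h
    have hlamB := (Finset.mem_filter.mp hlam).2
    obtain ⟨hδl, hrowl⟩ := hcst lam hlamB.1 hlamB.2
    have h1 := hrel' 1 (by rw [orderOf_one]; exact hp.not_dvd_one)
    rw [← charDegree_cast, ← charDegree_cast, hθ2] at h1
    have hδlam : δ lam = -1 := by
      refine hδl.resolve_left fun h => ?_
      rw [h] at h1
      push_cast at h1
      have h' : ((2 + charDegree (lam : G → ℂ) : ℕ) : ℂ) = ((1 : ℕ) : ℂ) := by push_cast; linear_combination h1
      rw [Nat.cast_inj] at h'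
      omega
    have hlam1 : charDegree (lam : G → ℂ) = 1 := by
      rw [hδlam] at h1
      push_cast at h1
      apply Nat.cast_injective (R := ℂ)
      push_cast
      linear_combination -h1
    have hxlam : ∀ i : ZMod p, (lam : G → ℂ) (pw x i) = 1 := by
      have hd := charDegree_eq_sum_one hS hα hp2 hL lam
      have hs := sum_bInt_eq hS lam (oneK x L)
      rw [← hd, hlam1, sum_bInt_const hS hrowl, hδlam] at hs
      have hz : multN hS lam (oneK x L) 0 = 1 := by
        have : (p : ℤ) * (multN hS lam (oneK x L) 0 : ℤ) = p * 1 := by omega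
        exact_mod_cast mul_left_cancel₀ (by exact_mod_cast hp.ne_zero) this
      intro i
      rw [apply_pw_eq hS hα hp2 hL, Finset.sum_eq_single 0 (fun j _ hj => ?_) (fun h => absurd (Finset.mem_univ _) h),
        hz, mul_zero, ζ_zero, mul_one, Nat.cast_one]
      have h := hrowl (Units.mk0 j hj)
      rw [bInt_eq_sub, hδlam, hz, Units.val_mk0] at h
      rw [show multN hS lam (oneK x L) j = 0 by omega, Nat.cast_zero, zero_mul]
    have hkerθ : Codegree.kerSub (exc c) = ⊥ := by
      by_contra hne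
      have hxk := mem_of_normal hS hα (Codegree.kerSub_normal _) hne
      have h0 := hrest _ hθ1 hθm
      have hval : ∀ i : ZMod p, (exc c : G → ℂ) (pw x i) = 2 := fun i => by
        have : pw x i ∈ Codegree.kerSub (exc c) := Subgroup.pow_mem _ hxk _
        rw [Codegree.mem_kerSub.mp this, ← charDegree_cast, hθ2]
        norm_num
      have h := multN_spec hS (exc c) (oneK x L) 0
      rw [h0, mult] at h
      simp only [mul_zero, neg_zero, ζ_zero, one_mul, dec_one_eq hS hα hp2 hL, hval, Finset.sum_const,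
        Finset.card_univ, ZMod.card, nsmul_eq_mul, Nat.cast_zero] at h
      rw [inv_mul_cancel_left₀ (Nat.cast_ne_zero.mpr hp.ne_zero)] at h
      exact two_ne_zero h
    set H := Codegree.kerSub lam with hH
    have hxH : x ∈ H := by
      rw [Codegree.mem_kerSub, ← hS.pw_one, hxlam, ← charDegree_cast, hlam1, Nat.cast_one]
    have hwH : ∀ w : L, (w : G) ∈ H → w = 1 := by
      intro w hw
      have h := hrel' (w : G) (hS.regular_L w)
      rw [Codegree.mem_kerSub.mp hw, hδlam, ← charDegree_cast, hlam1] at h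
      have hk : (w : G) ∈ Codegree.kerSub (exc c) := by
        rw [Codegree.mem_kerSub, h, ← charDegree_cast, hθ2]
        norm_num
      rw [hkerθ, Subgroup.mem_bot] at hk
      exact Subtype.ext hk
    have hzle : Subgroup.zpowers x ≤ H := Subgroup.zpowers_le.mpr hxH
    let P : Sylow p H := Sylow.ofCard ((Subgroup.zpowers x).subgroupOf H) (by
      rw [Nat.card_congr (Subgroup.subgroupOfEquivOfLe hzle).toEquiv, hS.card_zpowers_eq]
      refine (pow_one p).symm.trans (congrArg (p ^ ·) (le_antisymm ?_ ?_))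
      · exact (hp.dvd_iff_one_le_factorization Nat.card_pos.ne').mp
          (hS.card_zpowers_eq ▸ Subgroup.card_dvd_of_le hzle)
      · rw [← hS.factorization_card]
        exact (Nat.factorization_le_iff_dvd Nat.card_pos.ne' Nat.card_pos.ne').mpr (Subgroup.card_subgroup_dvd_card _) p)
    have hPcoe : (P : Subgroup H) = (Subgroup.zpowers x).subgroupOf H := rfl
    obtain ⟨Q, hQ, hQc⟩ := exists_normal_complement P (by
      rw [hPcoe]
      refine ⟨⟨fun a b => Subtype.ext (Subtype.ext ?_)⟩⟩
      obtain ⟨i, hi⟩ := Subgroup.mem_zpowers_iff.mp a.2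
      obtain ⟨j, hj⟩ := Subgroup.mem_zpowers_iff.mp b.2
      replace hi : x ^ i = ((a : H) : G) := hi
      replace hj : x ^ j = ((b : H) : G) := hj
      show ((a : H) : G) * ((b : H) : G) = ((b : H) : G) * ((a : H) : G)
      rw [← hi, ← hj]
      exact ((Commute.refl x).zpow_zpow i j).eq) (by
      intro y hy
      rw [hPcoe] at hy ⊢
      have hyN : (y : G) ∈ Subgroup.normalizer (Subgroup.zpowers x : Set G) := by
        rw [Subgroup.mem_normalizer_iff]
        intro z
        constructor
        · intro hz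
          exact (Subgroup.mem_normalizer_iff.mp hy ⟨z, hzle hz⟩).mp hz
        · intro hz
          have hzH : z ∈ H := by
            have := (Codegree.kerSub_normal lam).conj_mem' _ (hzle hz) (y : G)
            simpa [mul_assoc] using this
          exact (Subgroup.mem_normalizer_iff.mp hy ⟨z, hzH⟩).mpr hz
      obtain ⟨v, hv, l, hl', hyl⟩ := hS.hgen _ hyN
      have hlH : l ∈ H := by
        rw [show l = v⁻¹ * (y : G) by rw [hyl, inv_mul_cancel_left]]
        exact H.mul_mem (H.inv_mem (hzle hv)) y.2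
      rw [Subgroup.mem_subgroupOf, hyl, show l = 1 from congrArg Subtype.val (hwH ⟨l, hl'⟩ hlH), mul_one]
      exact hv)
    have hQp : ¬ p ∣ Nat.card Q := by
      intro h
      have h1 := hQc.card_mul_card
      rw [show Nat.card (P : Subgroup H) = p by
        show Nat.card ((Subgroup.zpowers x).subgroupOf H) = p
        rw [Nat.card_congr (Subgroup.subgroupOfEquivOfLe hzle).toEquiv, hS.card_zpowers_eq]] at h1
      refine hS.hsq (dvd_trans ?_ (Subgroup.card_subgroup_dvd_card H))
      rw [← h1, pow_two]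
      exact Nat.mul_dvd_mul_right h p
    have hQall : ∀ y : H, ¬ p ∣ orderOf y → y ∈ Q := by
      intro y hy
      obtain ⟨⟨q, r⟩, hqr⟩ := hQc.2 y
      have hord : orderOf (y : H ⧸ Q) ∣ p := by
        rw [show (y : H ⧸ Q) = ((r : H) : H ⧸ Q) by
          rw [← hqr, QuotientGroup.mk_mul, (QuotientGroup.eq_one_iff _).mpr q.2, one_mul]]
        refine (orderOf_map_dvd (QuotientGroup.mk' Q) (r : H)).trans ?_
        rw [Subgroup.orderOf_coe]
        refine (orderOf_dvd_natCard r).trans (dvd_of_eq ?_)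
        show Nat.card ((Subgroup.zpowers x).subgroupOf H) = p
        rw [Nat.card_congr (Subgroup.subgroupOfEquivOfLe hzle).toEquiv, hS.card_zpowers_eq]
      rw [← QuotientGroup.eq_one_iff, ← orderOf_eq_one_iff]
      exact ((Nat.dvd_prime hp).mp hord).resolve_right fun h => hy (h ▸ orderOf_map_dvd (QuotientGroup.mk' Q) y)
    have hQG : (Q.map H.subtype).Normal := by
      refine ⟨fun y hy g => ?_⟩
      obtain ⟨z, hz, rfl⟩ := Subgroup.mem_map.mp hy
      refine ⟨⟨g * (z : G) * g⁻¹, (Codegree.kerSub_normal lam).conj_mem _ z.2 g⟩, hQall _ ?_, rfl⟩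
      intro hd
      rw [← Subgroup.orderOf_coe, show ((⟨g * (z : G) * g⁻¹, _⟩ : H) : G) = g * (z : G) * g⁻¹ from rfl,
        SecondMain.orderOf_conj, Subgroup.orderOf_coe] at hd
      exact hQp (hd.trans (by
        rw [show z = ((⟨z, hz⟩ : Q) : H) from rfl, Subgroup.orderOf_coe]; exact orderOf_dvd_natCard _))
    have hQbot : Q.map H.subtype = ⊥ := by
      by_contra hne
      obtain ⟨z, hz, hzx⟩ := Subgroup.mem_map.mp (mem_of_normal hS hα hQG hne)
      refine hQp ?_
      have h : orderOf (⟨z, hz⟩ : Q) = p := by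
        rw [← Subgroup.orderOf_coe, ← Subgroup.orderOf_coe]
        exact (congrArg orderOf hzx).trans hS.hx
      exact h ▸ orderOf_dvd_natCard _
    rw [Subgroup.map_eq_bot_iff_of_injective _ H.subtype_injective] at hQbot
    subst hQbot
    have htop : (P : Subgroup H) = ⊤ := Subgroup.isComplement'_bot_left.mp hQc
    refine hnn ?_
    have : Subgroup.zpowers x = H := le_antisymm hzle fun y hy => by
      have : (⟨y, hy⟩ : H) ∈ (P : Subgroup H) := htop ▸ Subgroup.mem_top _
      exact this
    rw [this]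
    exact Codegree.kerSub_normal lam

end Cfsg.Agent.PrimeDegreeTwoP
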