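/-
Transitive groups of prime degree with a Sylow normalizer of order `2p`: fixed points
(namespace `Cfsg.Agent.PrimeDegreeTwoP`).

Main results: `exists_smul_pair`, `anti_decomp`, `fix_regular`, `card_eq`.
-/
import Cfsg.Agent.Lib.PrimeDegreeTwoP.Main

set_option autoImplicit false
set_option linter.unusedSectionVars false
set_option linter.style.haveILetI false

open scoped ComplexConjugate

namespace Cfsg.Agent.PrimeDegreeTwoP

open Cfsg Cfsg.Agent.Blocks Cfsg.Agent.CyclicDefect

variable {α : Type*} [Fintype α] [DecidableEq α]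

/-- The number of fixed points. -/
noncomputable abbrev fx {G : Subgroup (Equiv.Perm α)} (g : G) : ℕ := Nat.card (MulAction.fixedBy α g)

variable {G : Subgroup (Equiv.Perm α)}

theorem card_fixedBy_prod (g : G) : Nat.card (MulAction.fixedBy (α × α) g) = fx g * fx g := by
  rw [← Nat.card_prod]
  exact Nat.card_congr
    { toFun := fun y => (⟨y.1.1, congrArg Prod.fst y.2⟩, ⟨y.1.2, congrArg Prod.snd y.2⟩)
      invFun := fun y => ⟨(y.1.1, y.2.1), Prod.ext y.1.2 y.2.2⟩
      left_inv := fun y => rfl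
      right_inv := fun y => rfl }

theorem antiChar_swap (g : G) : antiChar (Y := α × α) Prod.swap g = ((fx g : ℂ) * fx g - fx (g * g)) / 2 := by
  rw [antiChar, show Nat.card {y : α × α // g • y = y} = fx g * fx g from card_fixedBy_prod g, Nat.cast_mul]
  congr 3
  exact Nat.card_congr
    { toFun := fun y => ⟨y.1.1, show (g * g) • y.1.1 = y.1.1 by
        rw [mul_smul, show g • y.1.1 = y.1.2 from congrArg Prod.fst y.2]
        exact congrArg Prod.snd y.2⟩
      invFun := fun a => ⟨(a.1, g • a.1), Prod.ext rfl ((mul_smul g g a.1).symm.trans a.2)⟩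
      left_inv := fun y => Subtype.ext (Prod.ext rfl (congrArg Prod.fst y.2 :))
      right_inv := fun a => rfl }

theorem antiChar_swap_mul (g : G) :
    antiChar (Y := (α × α) × α) (Prod.map Prod.swap id) g = antiChar (Y := α × α) Prod.swap g * fx g := by
  rw [antiChar, antiChar, div_mul_eq_mul_div, sub_mul, ← Nat.cast_mul, ← Nat.cast_mul, ← Nat.card_prod, ← Nat.card_prod]
  congr 3
  · exact Nat.card_congr
      { toFun := fun y => (⟨y.1.1, congrArg Prod.fst y.2⟩, ⟨y.1.2, congrArg Prod.snd y.2⟩)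
        invFun := fun y => ⟨(y.1.1, y.2.1), Prod.ext y.1.2 y.2.2⟩
        left_inv := fun y => rfl
        right_inv := fun y => rfl }
  · exact Nat.card_congr
      { toFun := fun y => (⟨y.1.1, congrArg Prod.fst y.2⟩, ⟨y.1.2, congrArg Prod.snd y.2⟩)
        invFun := fun y => ⟨(y.1.1, y.2.1), Prod.ext y.1.2 y.2.2⟩
        left_inv := fun y => rfl
        right_inv := fun y => rfl }

variable {p : ℕ} [Fact p.Prime] (hα : Fintype.card α = p)
include hα

/-- Elements of order divisible by `p` fix no point. -/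
theorem fx_singular {g : G} (hg : p ∣ orderOf g) : fx g = 0 := by
  have hp : p.Prime := Fact.out
  rw [fx, Nat.card_eq_zero]
  refine Or.inl ⟨fun a => ?_⟩
  have hy : orderOf (g ^ (orderOf g / p)) = p := orderOf_pow_orderOf_div (orderOf_pos g).ne' hg
  obtain ⟨b, hb⟩ := Fintype.exists_ne_of_one_lt_card (hα.symm ▸ hp.one_lt) a.1
  obtain ⟨n, hn⟩ := exists_pow_smul hp hα hy a.1 b
  refine hb (hn.symm.trans ?_)
  have hst : g ∈ MulAction.stabilizer G a.1 := a.2
  exact pow_mem (pow_mem hst _) n

theorem fx_singular_sq (hp2 : 2 < p) {g : G} (hg : p ∣ orderOf g) : fx (g * g) = 0 := by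
  have hp : p.Prime := Fact.out
  refine fx_singular hα ?_
  have h : g ^ (2 * orderOf (g * g)) = 1 := by rw [pow_mul, pow_two, pow_orderOf_eq_one]
  refine (hp.dvd_mul.mp (hg.trans (orderOf_dvd_of_pow_eq_one h))).resolve_left fun h2 => ?_
  have := Nat.le_of_dvd two_pos h2
  omega

variable {x : G} {L : Subgroup G} (hS : Setting p x L) (hp2 : 2 < p) (hL : Nat.card L = 2)
  {M : Ideal AlgInt} (hM : IsPModular p M) (hnn : ¬ (Subgroup.zpowers x).Normal)
include hS hp2 hL hM hnn

/-- Two point transitivity. -/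
theorem exists_smul_pair {a b c d : α} (hab : a ≠ b) (hcd : c ≠ d) : ∃ g : G, g • a = c ∧ g • b = d := by
  classical
  have := Fintype.ofFinite G
  obtain ⟨ψ, hψ, hexp, -⟩ := perm_character hS hα hp2 hL hM hnn
  have hcard : Nat.card (MulAction.orbitRel.Quotient G (α × α)) = 2 := by
    apply Nat.cast_injective (R := ℂ)
    rw [← Char.classInner_fixedPoints_one,
      show classInner (fun g : G => (Nat.card (MulAction.fixedBy (α × α) g) : ℂ)) (1 : G → ℂ) =
        classInner ((1 : G → ℂ) + (ψ : G → ℂ)) ((1 : G → ℂ) + (ψ : G → ℂ)) from by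
          rw [classInner, classInner]
          refine congrArg _ (Finset.sum_congr rfl fun g _ => ?_)
          rw [Pi.add_apply, Pi.one_apply, ← hexp g, Complex.conj_natCast, map_one, mul_one, card_fixedBy_prod,
            Nat.cast_mul],
      Char.classInner_add_left, Char.classInner_add_right, Char.classInner_add_right,
      Char.classInner_irr_self Char.isIrrCharacter_one, Char.classInner_irr_self ψ.2,
      Char.classInner_irr_of_ne Char.isIrrCharacter_one ψ.2 (fun h => hψ (Subtype.ext h.symm)),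
      Char.classInner_irr_of_ne ψ.2 Char.isIrrCharacter_one (fun h => hψ (Subtype.ext h))]
    norm_num
  have := Fintype.ofFinite (MulAction.orbitRel.Quotient G (α × α))
  have hne : ∀ {u v w : α}, u ≠ v → (Quotient.mk'' (u, v) : MulAction.orbitRel.Quotient G (α × α)) ≠ Quotient.mk'' (w, w) := by
    intro u v w huv h
    obtain ⟨g, hg⟩ := MulAction.orbitRel_apply.mp (Quotient.eq''.mp h)
    exact huv ((congrArg Prod.fst hg).symm.trans (congrArg Prod.snd hg :))
  have h3 : (Quotient.mk'' (c, d) : MulAction.orbitRel.Quotient G (α × α)) = Quotient.mk'' (a, b) := by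
    by_contra h
    have h' := Finset.card_le_univ ({Quotient.mk'' (c, d), Quotient.mk'' (a, b), Quotient.mk'' (a, a)} :
      Finset (MulAction.orbitRel.Quotient G (α × α)))
    rw [Finset.card_insert_of_notMem (by simp [h, hne hcd]), Finset.card_pair (hne hab), ← Nat.card_eq_fintype_card,
      hcard] at h'
    omega
  obtain ⟨g, hg⟩ := MulAction.orbitRel_apply.mp (Quotient.eq''.mp h3)
  exact ⟨g, congrArg Prod.fst hg, congrArg Prod.snd hg⟩

set_option maxHeartbeats 800000 in
/-- The antisymmetric square of the permutation character. -/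
theorem anti_decomp [Fintype G] (hp5 : 5 ≤ p) :
    ∃ Φ : G → ℂ, classInner Φ (1 : G → ℂ) = 0 ∧
      (∀ g : G, ¬ p ∣ orderOf g → Φ g = ((p : ℂ) - 1) / 2 * ((fx g : ℂ) - 2)) ∧
      ∀ g : G, ((fx g : ℂ) * fx g - fx (g * g)) / 2 = (fx g : ℂ) - 1 + Φ g := by
  classical
  have hp := hS.hp
  have := Fintype.ofFinite (IrrCharacter G)
  obtain ⟨ψ, hψ, hexp, hψB, hψ0, hψrow⟩ := perm_character hS hα hp2 hL hM hnn
  set one : IrrCharacter G := ⟨1, Char.isIrrCharacter_one⟩
  obtain ⟨hP, h1P⟩ := principal_isPBlock (G := G) hM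
  have hl := lies_principal hS hM
  obtain ⟨hk, exc, ε, δ, hinj, hexcB, hε, hexc, hcst, hrel⟩ := block_structure hS hM hP hl
  rw [card_U_two hS hα hp2 hL] at hk
  have ht : Fintype.card ((ZMod p)ˣ ⧸ U hS (oneK x L : K x L → ℂ)) * 2 = p - 1 := by
    rw [← Nat.card_eq_fintype_card, ← card_units_eq hS (oneK x L : K x L → ℂ), card_U_two hS hα hp2 hL, mul_comm]
  haveI : Nontrivial ((ZMod p)ˣ ⧸ U hS (oneK x L : K x L → ℂ)) := Fintype.one_lt_card_iff_nontrivial.mp (by omega)
  have hnr : ∀ χ : IrrCharacter G, (∀ u : (ZMod p)ˣ, bInt hS χ (oneK x L) (u : ZMod p) ≠ 0) → χ ∉ Set.range exc := by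
    rintro χ h ⟨c, rfl⟩
    obtain ⟨c', hc'⟩ := exists_ne c
    have h' := h c'.out
    rw [hexc c, if_neg (by rw [QuotientGroup.out_eq']; exact hc')] at h'
    exact h' rfl
  have hψr : ψ ∉ Set.range exc := hnr ψ fun u => by rw [hψrow]; exact one_ne_zero
  have honerow : ∀ u : (ZMod p)ˣ, bInt hS one (oneK x L) (u : ZMod p) = -1 := fun u => by
    rw [bInt_eq_sub, multN_one hS hα hp2 hL, multN_one hS hα hp2 hL, if_neg (Units.ne_zero u), if_pos rfl]
    norm_num
  have honer : one ∉ Set.range exc := hnr one fun u => by rw [honerow]; norm_num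
  have hδone : δ one = -1 := ((hcst one h1P honer).2 1).symm.trans (honerow 1)
  have hδψ : δ ψ = 1 := ((hcst ψ hψB hψr).2 1).symm.trans (hψrow 1)
  set F := Finset.univ.filter (fun χ => χ ∈ principalBlock M G ∧ χ ∉ Set.range exc) with hF
  have hFeq : F = {one, ψ} := (Finset.eq_of_subset_of_card_le
    (by intro a ha; rcases Finset.mem_insert.mp ha with rfl | ha
        · exact Finset.mem_filter.mpr ⟨Finset.mem_univ _, h1P, honer⟩
        · rw [Finset.mem_singleton.mp ha]; exact Finset.mem_filter.mpr ⟨Finset.mem_univ _, hψB, hψr⟩)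
    (le_of_eq (by rw [Finset.card_pair hψ.symm]; convert card_rest hinj hexcB hk))).symm
  have hrel' : ∀ g : G, ¬ p ∣ orderOf g → ∀ c, (ε : ℂ) * (exc c : G → ℂ) g = 2 - (fx g : ℂ) := by
    intro g hg c
    have h := hrel g hg c
    rw [Finset.sum_congr (s₂ := F) (by ext; simp [hF]) fun _ _ => rfl, hFeq, Finset.sum_pair hψ.symm, hδone, hδψ,
      show (one : G → ℂ) g = 1 from rfl] at h
    push_cast at h
    linear_combination h + hexp g
  have hψd : charDegree (ψ : G → ℂ) = p - 1 := by
    apply Nat.cast_injective (R := ℂ)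
    have h := hexp 1
    rw [perm_apply_one hα] at h
    rw [charDegree_cast, Nat.cast_sub hp.one_lt.le, Nat.cast_one]
    linear_combination -h
  have hexc1 : ∀ c, ε = -1 ∧ charDegree (exc c : G → ℂ) = p - 2 := by
    intro c
    have h := hrel' 1 (by rw [orderOf_one]; exact hp.not_dvd_one) c
    rw [fx, perm_apply_one hα, ← charDegree_cast] at h
    have h' : ε * (charDegree (exc c : G → ℂ) : ℤ) = 2 - (p : ℤ) := by exact_mod_cast h
    rcases hε with rfl | rfl <;> omega
  have hεv : ε = -1 := (hexc1 (Classical.arbitrary _)).1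
  subst hεv
  have hθ : ∀ g : G, ¬ p ∣ orderOf g → ∀ c, (exc c : G → ℂ) g = (fx g : ℂ) - 2 := by
    intro g hg c
    have h := hrel' g hg c
    push_cast at h
    linear_combination -h
  -- the antisymmetric square
  set Θ : G → ℂ := antiChar (Y := α × α) Prod.swap with hΘ
  have hΘc : IsCharacter G Θ := isCharacter_antiChar Prod.swap Prod.swap_swap (fun g y => rfl)
  obtain ⟨m, hm, hmi⟩ := Char.IsCharacter.decompose hΘc
  have hm1 : m one = 0 := by
    apply Nat.cast_injective (R := ℂ)
    rw [← hmi, Nat.cast_zero, show (one : G → ℂ) = 1 from rfl]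
    refine classInner_antiChar_one_eq_zero Prod.swap Prod.swap_swap (fun g y => rfl) fun f hf hinv => funext fun y => ?_
    obtain ⟨a, b⟩ := y
    rcases eq_or_ne a b with rfl | hab
    · have h := hf (a, a)
      rw [Prod.swap_prod_mk] at h
      show f (a, a) = 0
      linear_combination h / 2
    · obtain ⟨g, hga, hgb⟩ := exists_smul_pair hα hS hp2 hL hM hnn hab hab.symm
      have h := hinv g (a, b)
      rw [Prod.smul_mk, hga, hgb, ← Prod.swap_prod_mk (a := a) (b := b), hf] at h
      show f (a, b) = 0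
      linear_combination -h / 2
  have hmψ0 : m ψ ≠ 0 := by
    intro h0
    refine classInner_antiChar_one_ne_zero (G := G) (Y := (α × α) × α) (Prod.map Prod.swap id)
      (fun y => rfl) (fun g y => rfl)
      (fun y => (if y.2 = y.1.1 then (1 : ℂ) else 0) - if y.2 = y.1.2 then 1 else 0) (fun y => ?_) (fun g y => ?_) ?_ ?_
    · show (if y.2 = y.1.2 then (1 : ℂ) else 0) - (if y.2 = y.1.1 then 1 else 0) = _
      ring
    · show (if g • y.2 = g • y.1.1 then (1 : ℂ) else 0) - (if g • y.2 = g • y.1.2 then 1 else 0) = _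
      simp only [smul_left_cancel_iff]
    · intro h
      obtain ⟨a, b, hab⟩ := Fintype.exists_pair_of_one_lt_card (α := α) (hα.symm ▸ hp.one_lt)
      have h' := congrFun h ((a, b), a)
      simp [hab] at h'
    · rw [show classInner (antiChar (G := G) (Prod.map (Prod.swap (α := α) (β := α)) id)) (1 : G → ℂ) =
          classInner Θ ((one : G → ℂ) + (ψ : G → ℂ)) from by
        rw [classInner, classInner]
        refine congrArg _ (Finset.sum_congr rfl fun g _ => ?_)
        rw [antiChar_swap_mul, Pi.one_apply, map_one, mul_one, Pi.add_apply,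
          show (one : G → ℂ) g = 1 from rfl, ← hexp g, Complex.conj_natCast],
        Char.classInner_add_right, hmi, hmi, hm1, h0, Nat.cast_zero, add_zero]
  have hmult : ∀ j : ZMod p, (((∑ φ : IrrCharacter G, m φ * multN hS φ (oneK x L) j : ℕ)) : ℂ) =
      (p : ℂ)⁻¹ * Θ 1 := by
    intro j
    rw [Nat.cast_sum, Finset.sum_congr rfl (g := fun φ => (m φ : ℂ) * mult (φ : G → ℂ) (oneK x L : K x L → ℂ) j)
      fun φ _ => by rw [Nat.cast_mul, multN_spec hS], ← mult_sum hS, ← hm, mult,
      Finset.sum_eq_single 0 (fun i _ hi => ?_) (fun h => absurd (Finset.mem_univ _) h)]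
    · rw [zero_mul, neg_zero, ζ_zero, one_mul, dec_one_eq hS hα hp2 hL, hS.pw_zero]
    · have hd : p ∣ orderOf (pw x i) := by rw [hS.orderOf_pw hi]
      rw [dec_one_eq hS hα hp2 hL, hΘ, antiChar_swap, fx_singular hα hd, fx_singular_sq hα hp2 hd]
      simp
  have hbsum : ∀ u : (ZMod p)ˣ, ∑ φ : IrrCharacter G, (m φ : ℤ) * bInt hS φ (oneK x L) (u : ZMod p) = 0 := by
    intro u
    have h : (∑ φ : IrrCharacter G, m φ * multN hS φ (oneK x L) (u : ZMod p)) =
        ∑ φ : IrrCharacter G, m φ * multN hS φ (oneK x L) 0 :=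
      Nat.cast_injective (R := ℂ) ((hmult _).trans (hmult _).symm)
    simp only [bInt_eq_sub, mul_sub, Finset.sum_sub_distrib]
    rw [sub_eq_zero]
    exact_mod_cast h
  have hmc : ∀ c, m (exc c) = m ψ := by
    intro c
    have h := hbsum c.out
    rw [Finset.sum_eq_add ψ (exc c) (fun h => hψr ⟨c, h.symm⟩) (fun φ _ hφ => ?_)
      (fun h => absurd (Finset.mem_univ _) h) (fun h => absurd (Finset.mem_univ _) h), hψrow, hexc,
      if_pos (QuotientGroup.out_eq' c)] at h
    · omega
    · by_cases hφB : φ ∈ principalBlock M G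
      · by_cases hφr : φ ∈ Set.range exc
        · obtain ⟨c', rfl⟩ := hφr
          rw [hexc, if_neg (by rw [QuotientGroup.out_eq']; exact fun e => hφ.2 (congrArg exc e.symm)), mul_zero]
        · have hφF : φ ∈ F := Finset.mem_filter.mpr ⟨Finset.mem_univ _, hφB, hφr⟩
          rw [hFeq, Finset.mem_insert, Finset.mem_singleton] at hφF
          rw [hφF.resolve_right hφ.1, hm1, Nat.cast_zero, zero_mul]
      · rw [show bInt hS φ (oneK x L) ((c.out : (ZMod p)ˣ) : ZMod p) = 0 from
          by_contra fun h => hφB (mem_of_bInt_ne_zero hS hM hP hl h), mul_zero]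
  -- the degrees
  set s := insert ψ (Finset.univ.image exc) with hs
  have hψs : ψ ∉ Finset.univ.image exc := fun h => hψr (by
    obtain ⟨c, -, hc⟩ := Finset.mem_image.mp h; exact ⟨c, hc⟩)
  have hdeg : p * (p - 1) = 2 * ∑ φ : IrrCharacter G, m φ * charDegree (φ : G → ℂ) := by
    apply Nat.cast_injective (R := ℂ)
    have h := congrFun hm 1
    simp only [Finset.sum_apply, Pi.smul_apply, smul_eq_mul] at h
    rw [show Θ 1 = ((fx (1 : G) : ℂ) * fx (1 : G) - fx ((1 : G) * 1)) / 2 from antiChar_swap 1, mul_one, fx,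
      perm_apply_one hα] at h
    push_cast [Nat.cast_sub hp.one_lt.le, charDegree_cast]
    linear_combination 2 * h
  have hdecomp : ∀ φ, m φ = if φ ∈ s then 1 else 0 := by
    have hexcsum : ∑ c, m (exc c) * charDegree (exc c : G → ℂ) =
        Fintype.card ((ZMod p)ˣ ⧸ U hS (oneK x L : K x L → ℂ)) * (m ψ * (p - 2)) := by
      rw [Finset.sum_congr rfl (g := fun _ => m ψ * (p - 2)) fun c _ => by rw [hmc, (hexc1 c).2],
        Finset.sum_const, Finset.card_univ, smul_eq_mul]
    rw [← Finset.sum_sdiff (Finset.subset_univ s), hs, Finset.sum_insert hψs,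
      Finset.sum_image (fun a _ b _ h => hinj h), ← hs, hexcsum, hψd] at hdeg
    have hmain : p * (p - 1) = 2 * (∑ φ ∈ Finset.univ \ s, m φ * charDegree (φ : G → ℂ)) + m ψ * (p * (p - 1)) := by
      obtain ⟨q, rfl⟩ : ∃ q, p = q + 2 := ⟨p - 2, by omega⟩
      rw [show q + 2 - 2 = q by omega, show q + 2 - 1 = q + 1 by omega] at hdeg
      rw [show q + 2 - 1 = q + 1 by omega] at ht ⊢
      have h3 : 2 * (Fintype.card ((ZMod (q + 2))ˣ ⧸ U hS (oneK x L : K x L → ℂ)) * (m ψ * q)) = (q + 1) * (m ψ * q) := by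
        rw [← mul_assoc, mul_comm 2, ht]
      linarith
    have hmψ1 : m ψ = 1 := by
      by_contra h
      have h2 := Nat.mul_le_mul_right (p * (p - 1)) (show 2 ≤ m ψ by omega)
      have h3 : 0 < p * (p - 1) := Nat.mul_pos hp.pos (by omega)
      omega
    rw [hmψ1, one_mul] at hmain
    intro φ
    split_ifs with hφ
    · rcases Finset.mem_insert.mp hφ with rfl | hφ
      · exact hmψ1
      · obtain ⟨c, -, rfl⟩ := Finset.mem_image.mp hφ
        rw [hmc, hmψ1]
    · have h := Finset.sum_eq_zero_iff.mp (by omega : ∑ φ ∈ Finset.univ \ s, m φ * charDegree ((φ : IrrCharacter G) : G → ℂ) = 0)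
        φ (Finset.mem_sdiff.mpr ⟨Finset.mem_univ _, hφ⟩)
      exact (Nat.mul_eq_zero.mp h).resolve_right fun h => irr_one_ne_zero φ (by rw [← charDegree_cast, h, Nat.cast_zero])
  refine ⟨fun g => ∑ c, (exc c : G → ℂ) g, ?_, fun g hg => ?_, fun g => ?_⟩
  · rw [show (fun g => ∑ c, (exc c : G → ℂ) g) = ∑ c, (exc c : G → ℂ) from funext fun g => (Finset.sum_apply g _ _).symm,
      Char.classInner_sum_left]
    exact Finset.sum_eq_zero fun c _ => Char.classInner_irr_of_ne (exc c).2 Char.isIrrCharacter_one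
      (fun h => honer ⟨c, Subtype.ext h⟩)
  · dsimp only
    rw [Finset.sum_congr rfl fun c _ => hθ g hg c, Finset.sum_const, Finset.card_univ, nsmul_eq_mul]
    have h : ((Fintype.card ((ZMod p)ˣ ⧸ U hS (oneK x L : K x L → ℂ)) : ℕ) : ℂ) * 2 = (p : ℂ) - 1 := by
      rw [← Nat.cast_ofNat, ← Nat.cast_mul, ht, Nat.cast_sub hp.one_lt.le, Nat.cast_one]
    linear_combination ((fx g : ℂ) - 2) / 2 * h
  · rw [← antiChar_swap, ← hΘ, hm, Finset.sum_apply,
      Finset.sum_congr rfl (g := fun φ => if φ ∈ s then (φ : G → ℂ) g else 0) fun φ _ => by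
        rw [Pi.smul_apply, smul_eq_mul, hdecomp]; split_ifs <;> simp,
      ← Finset.sum_filter, Finset.filter_mem_eq_inter, Finset.univ_inter, hs, Finset.sum_insert hψs,
      Finset.sum_image (fun a _ b _ h => hinj h)]
    linear_combination -hexp g

variable (hp5 : 5 ≤ p)
include hp5

/-- A regular element fixes one point, if it is an involution, or two. -/
theorem fix_regular {g : G} (hg : ¬ p ∣ orderOf g) (hg1 : g ≠ 1) : fx g = 1 ∧ g * g = 1 ∨ fx g = 2 := by
  classical
  have := Fintype.ofFinite G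
  obtain ⟨Φ, -, hreg, hid⟩ := anti_decomp hα hS hp2 hL hM hnn hp5
  have h := hid g
  rw [hreg g hg] at h
  have hz : ((fx g : ℤ) * fx g - fx (g * g)) = 2 * ((fx g : ℤ) - 1) + ((p : ℤ) - 1) * ((fx g : ℤ) - 2) := by
    apply Int.cast_injective (α := ℂ)
    push_cast
    linear_combination 2 * h
  have hall : ∀ y : G, fx y = p → y = 1 := by
    intro y hy
    refine eq_of_smul_eq_smul (α := α) fun a => ?_
    rw [one_smul]
    have hu : MulAction.fixedBy α y = Set.univ := Set.eq_of_subset_of_ncard_le (Set.subset_univ _)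
      (le_of_eq (by rw [Set.ncard_univ, ← Nat.card_coe_set_eq, Nat.card_eq_fintype_card, hα]; exact hy.symm))
      Set.finite_univ
    exact (hu.symm ▸ Set.mem_univ a :)
  have hle : ∀ y : G, fx y ≤ p := fun y => by
    rw [← hα, ← Nat.card_eq_fintype_card]
    exact Finite.card_subtype_le _
  have hkm : fx g ≤ fx (g * g) := Nat.card_mono (Set.toFinite _) fun a (ha : g • a = a) => by
    show (g * g) • a = a
    rw [mul_smul, ha, ha]
  have hkp : fx g < p := lt_of_le_of_ne (hle g) fun h => hg1 (hall g h)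
  have hmp := hle (g * g)
  rcases Nat.lt_or_ge (fx g) 3 with hk | hk
  · interval_cases hv : fx g
    · exfalso
      push_cast at hz
      omega
    · refine Or.inl ⟨rfl, hall _ ?_⟩
      push_cast at hz
      omega
    · exact Or.inr rfl
  · exfalso
    have h1 : (0 : ℤ) < ((fx g : ℤ) - 2) * ((p : ℤ) - fx g) := mul_pos (by omega) (by omega)
    nlinarith

/-- The order. -/
theorem card_eq : Nat.card G = p * (p - 1) * (p - 2) := by
  classical
  have := Fintype.ofFinite G
  have hp := hS.hp
  obtain ⟨Φ, hΦ, hreg, hid⟩ := anti_decomp hα hS hp2 hL hM hnn hp5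
  obtain ⟨ψ, hψ, hexp, -⟩ := perm_character hS hα hp2 hL hM hnn
  have hN : (Nat.card G : ℂ) = ∑ _g : G, (1 : ℂ) := by simp [Nat.card_eq_fintype_card]
  have h1 : ∑ g : G, (fx g : ℂ) = (Nat.card G : ℂ) := by
    have h := Char.card_mul_classInner (fun g : G => (fx g : ℂ)) (1 : G → ℂ)
    simp only [Pi.one_apply, map_one, mul_one] at h
    rw [← h, show (fun g : G => (fx g : ℂ)) = (1 : G → ℂ) + (ψ : G → ℂ) from funext hexp, Char.classInner_add_left,
      Char.classInner_irr_self Char.isIrrCharacter_one,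
      Char.classInner_irr_of_ne ψ.2 Char.isIrrCharacter_one (fun h => hψ (Subtype.ext h))]
    ring
  have h2 : ∑ g : G, (fx g : ℂ) * fx g = 2 * (Nat.card G : ℂ) := by
    have h := Char.card_mul_classInner (fun g : G => (fx g : ℂ)) (fun g : G => (fx g : ℂ))
    simp only [Complex.conj_natCast] at h
    rw [← h, show (fun g : G => (fx g : ℂ)) = (1 : G → ℂ) + (ψ : G → ℂ) from funext hexp, Char.classInner_add_left,
      Char.classInner_add_right, Char.classInner_add_right,
      Char.classInner_irr_self Char.isIrrCharacter_one, Char.classInner_irr_self ψ.2,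
      Char.classInner_irr_of_ne Char.isIrrCharacter_one ψ.2 (fun h => hψ (Subtype.ext h.symm)),
      Char.classInner_irr_of_ne ψ.2 Char.isIrrCharacter_one (fun h => hψ (Subtype.ext h))]
    ring
  set S : ℂ := ∑ g : G, if p ∣ orderOf g then (1 : ℂ) else 0 with hSdef
  have hsum0 : (p : ℂ) * S + ((p : ℂ) - 1) / 2 * ((Nat.card G : ℂ) - 2 * Nat.card G) = 0 := by
    have h := Char.card_mul_classInner Φ (1 : G → ℂ)
    rw [hΦ, mul_zero] at h
    simp only [Pi.one_apply, map_one, mul_one] at h
    rw [Finset.sum_congr rfl (g := fun g => ((p : ℂ) - 1) / 2 * ((fx g : ℂ) - 2 * 1) +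
      (p : ℂ) * (if p ∣ orderOf g then 1 else 0)) fun g _ => ?_,
      Finset.sum_add_distrib, ← Finset.mul_sum, ← Finset.mul_sum, Finset.sum_sub_distrib, ← Finset.mul_sum,
      h1, ← hN, ← hSdef] at h
    · linear_combination -h
    · split_ifs with hg
      · have h3 := hid g
        rw [fx_singular hα hg, fx_singular_sq hα hp2 hg] at h3
        rw [fx_singular hα hg]
        push_cast at h3 ⊢
        linear_combination -h3
      · rw [hreg g hg]; ring
  have hsum2 : 2 * S + ((p : ℂ) - 1) * ((p : ℂ) - 2) = (Nat.card G : ℂ) := by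
    have h : ∑ g : G, ((fx g : ℂ) * fx g - 3 * fx g + 2 * 1) = ∑ g : G,
        ((2 : ℂ) * (if p ∣ orderOf g then 1 else 0) + if g = 1 then ((p : ℂ) - 1) * ((p : ℂ) - 2) else 0) := by
      refine Finset.sum_congr rfl fun g _ => ?_
      by_cases hg : p ∣ orderOf g
      · have hne : g ≠ 1 := fun e => hp.not_dvd_one (by rwa [e, orderOf_one] at hg)
        rw [fx_singular hα hg, if_pos hg, if_neg hne]
        push_cast
        ring
      · by_cases h1' : g = 1
        · subst h1'
          rw [fx, perm_apply_one hα, if_neg hg, if_pos rfl]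
          ring
        · rw [if_neg hg, if_neg h1']
          rcases fix_regular hα hS hp2 hL hM hnn hp5 hg h1' with ⟨h3, -⟩ | h3 <;> rw [h3] <;> push_cast <;> ring
    rw [Finset.sum_add_distrib, Finset.sum_add_distrib, Finset.sum_sub_distrib, ← Finset.mul_sum, ← Finset.mul_sum,
      ← Finset.mul_sum, h1, h2, ← hN, ← hSdef, Finset.sum_ite_eq' Finset.univ (1 : G), if_pos (Finset.mem_univ _)] at h
    linear_combination -h
  apply Nat.cast_injective (R := ℂ)
  push_cast [Nat.cast_sub (show 1 ≤ p by omega), Nat.cast_sub (show 2 ≤ p by omega)]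
  linear_combination (2 : ℂ) * hsum0 - (p : ℂ) * hsum2

end Cfsg.Agent.PrimeDegreeTwoP
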